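import Cfsg.Agent.Lib.Helper35.Fi23Ord.U1.Check
import Cfsg.Agent.Lib.Helper35.Fi23Ord.U2.Check
import Cfsg.Agent.Lib.Helper35.Fi23Ord.U3.Check
import Cfsg.Agent.Lib.Helper35.Fi23Ord.U4.Check
import Cfsg.Agent.Lib.Helper35.Fi23Ord.U5.Check
import Cfsg.Agent.Lib.Helper35.Fi23Ord.U6.Check
import Cfsg.Agent.Lib.Helper35.Fi23Ord.U7.Check
import Cfsg.Agent.Lib.Helper35.Fi23Ord.U8.Check
import Cfsg.Agent.Lib.Helper35.Fi23Ord.U9.Check
import Cfsg.Agent.Lib.Helper35.Fi23Ord.Y0.Check
import Cfsg.Agent.Lib.Helper35.Fi23Ord.P0.Check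
import Cfsg.Agent.Lib.Helper35.Fi23Ord.X0.Fin
import Cfsg.Agent.Lib.Helper35.Fi23a.Check
import Cfsg.Agent.Lib.Helper35.Fi22Ord.Main

namespace Cfsg.Agent.Lib.Helper35.Fi23Ord

open Cfsg.Agent.Lib.Helper35 Cfsg.Spor

set_option maxRecDepth 100000

noncomputable def I : PresIface Fi23 := coxIface Fi23.edges Fi23.extra PresFi23.cc PresFi23.extraL PresFi23.R PresFi23.allGens PresFi23.hall PresFi23.hOK PresFi23.hextra
theorem up10 : Finite (wsub I.val ([] : List (List Nat))) ∧ Nat.card (wsub I.val ([] : List (List Nat))) ≤ 1 := upper_nil I.val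
theorem up9 : Finite (wsub I.val [[3]]) ∧ Nat.card (wsub I.val [[3]]) ≤ 2 :=
  upper_cons 2 1 2 up10 (fun hf => card_upper_step I.val I.inv I.hinv [[3]] ([] : List (List Nat)) U9.invL U9.R U9.S 2
    (by decide +kernel) (by decide +kernel)
    (fun b hb => I.hR _ ((by decide +kernel : ∀ b ∈ U9.R, expand [[3]] b ∈ PresFi23.R) b hb))
    (by decide +kernel) U9.certData hf) (by decide +kernel)
theorem up8 : Finite (wsub I.val [[3], [4]]) ∧ Nat.card (wsub I.val [[3], [4]]) ≤ 6 :=
  upper_cons 3 2 6 up9 (fun hf => card_upper_step I.val I.inv I.hinv [[3], [4]] [[3]] U8.invL U8.R U8.S 3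
    (by decide +kernel) (by decide +kernel)
    (fun b hb => I.hR _ ((by decide +kernel : ∀ b ∈ U8.R, expand [[3], [4]] b ∈ PresFi23.R) b hb))
    (by decide +kernel) U8.certData hf) (by decide +kernel)
theorem up7 : Finite (wsub I.val [[3], [4], [8]]) ∧ Nat.card (wsub I.val [[3], [4], [8]]) ≤ 24 :=
  upper_cons 4 6 24 up8 (fun hf => card_upper_step I.val I.inv I.hinv [[3], [4], [8]] [[3], [4]] U7.invL U7.R U7.S 4
    (by decide +kernel) (by decide +kernel)
    (fun b hb => I.hR _ ((by decide +kernel : ∀ b ∈ U7.R, expand [[3], [4], [8]] b ∈ PresFi23.R) b hb))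
    (by decide +kernel) U7.certData hf) (by decide +kernel)
theorem up6 : Finite (wsub I.val [[2], [3], [4], [8]]) ∧ Nat.card (wsub I.val [[2], [3], [4], [8]]) ≤ 192 :=
  upper_cons 8 24 192 up7 (fun hf => card_upper_step I.val I.inv I.hinv [[2], [3], [4], [8]] [[3], [4], [8]] U6.invL U6.R U6.S 8
    (by decide +kernel) (by decide +kernel)
    (fun b hb => I.hR _ ((by decide +kernel : ∀ b ∈ U6.R, expand [[2], [3], [4], [8]] b ∈ PresFi23.R) b hb))
    (by decide +kernel) U6.certData hf) (by decide +kernel)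
theorem up5 : Finite (wsub I.val [[2], [3], [4], [5], [8]]) ∧ Nat.card (wsub I.val [[2], [3], [4], [5], [8]]) ≤ 1920 :=
  upper_cons 10 192 1920 up6 (fun hf => card_upper_step I.val I.inv I.hinv [[2], [3], [4], [5], [8]] [[2], [3], [4], [8]] U5.invL U5.R U5.S 10
    (by decide +kernel) (by decide +kernel)
    (fun b hb => I.hR _ ((by decide +kernel : ∀ b ∈ U5.R, expand [[2], [3], [4], [5], [8]] b ∈ PresFi23.R) b hb))
    (by decide +kernel) U5.certData hf) (by decide +kernel)
theorem up4 : Finite (wsub I.val [[2], [3], [4], [5], [8], [9]]) ∧ Nat.card (wsub I.val [[2], [3], [4], [5], [8], [9]]) ≤ 51840 :=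
  upper_cons 27 1920 51840 up5 (fun hf => card_upper_step I.val I.inv I.hinv [[2], [3], [4], [5], [8], [9]] [[2], [3], [4], [5], [8]] U4.invL U4.R U4.S 27
    (by decide +kernel) (by decide +kernel)
    (fun b hb => I.hR _ ((by decide +kernel : ∀ b ∈ U4.R, expand [[2], [3], [4], [5], [8], [9]] b ∈ PresFi23.R) b hb))
    (by decide +kernel) U4.certData hf) (by decide +kernel)
theorem up3 : Finite (wsub I.val [[1], [2], [3], [4], [5], [8], [9]]) ∧ Nat.card (wsub I.val [[1], [2], [3], [4], [5], [8], [9]]) ≤ 12597120 :=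
  upper_cons 243 51840 12597120 up4 (fun hf => card_upper_step I.val I.inv I.hinv [[1], [2], [3], [4], [5], [8], [9]] [[2], [3], [4], [5], [8], [9]] U3.invL U3.R U3.S 243
    (by decide +kernel) (by decide +kernel)
    (fun b hb => I.hR _ ((by decide +kernel : ∀ b ∈ U3.R, expand [[1], [2], [3], [4], [5], [8], [9]] b ∈ PresFi23.R) b hb))
    (by decide +kernel) U3.certData hf) (by decide +kernel)
theorem up2 : Finite (wsub I.val [[1], [2], [3], [4], [5], [6], [8], [9]]) ∧ Nat.card (wsub I.val [[1], [2], [3], [4], [5], [6], [8], [9]]) ≤ 9170703360 :=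
  upper_cons 728 12597120 9170703360 up3 (fun hf => card_upper_step I.val I.inv I.hinv [[1], [2], [3], [4], [5], [6], [8], [9]] [[1], [2], [3], [4], [5], [8], [9]] U2.invL U2.R U2.S 728
    (by decide +kernel) (by decide +kernel)
    (fun b hb => I.hR _ ((by decide +kernel : ∀ b ∈ U2.R, expand [[1], [2], [3], [4], [5], [6], [8], [9]] b ∈ PresFi23.R) b hb))
    (by decide +kernel) U2.certData hf) (by decide +kernel)
theorem up1 : Finite (wsub I.val [[0], [1], [2], [3], [4], [5], [6], [8], [9]]) ∧ Nat.card (wsub I.val [[0], [1], [2], [3], [4], [5], [6], [8], [9]]) ≤ 129123503308800 :=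
  upper_cons 14080 9170703360 129123503308800 up2 (fun hf => card_upper_step I.val I.inv I.hinv [[0], [1], [2], [3], [4], [5], [6], [8], [9]] [[1], [2], [3], [4], [5], [6], [8], [9]] U1.invL U1.R U1.S 14080
    (by decide +kernel) (by decide +kernel)
    (fun b hb => I.hR _ ((by decide +kernel : ∀ b ∈ U1.R, expand [[0], [1], [2], [3], [4], [5], [6], [8], [9]] b ∈ PresFi23.R) b hb))
    (by decide +kernel) U1.certData hf) (by decide +kernel)
theorem up0 : Finite (wsub I.val [[0], [1], [2], [3], [4], [5], [6], [7], [8], [9]]) ∧ Nat.card (wsub I.val [[0], [1], [2], [3], [4], [5], [6], [7], [8], [9]]) ≤ 4089470473293004800 :=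
  upper_cons 31671 129123503308800 4089470473293004800 up1 (fun hf => card_upper_step I.val I.inv I.hinv [[0], [1], [2], [3], [4], [5], [6], [7], [8], [9]] [[0], [1], [2], [3], [4], [5], [6], [8], [9]] PresFi23.cc.invL PresFi23.R Fi23a.S 31671
    (by decide +kernel) (by decide +kernel)
    (fun b hb => I.hR _ ((by decide +kernel : ∀ b ∈ PresFi23.R, expand [[0], [1], [2], [3], [4], [5], [6], [7], [8], [9]] b ∈ PresFi23.R) b hb))
    (by decide +kernel) Fi23a.certData hf) (by decide +kernel)
noncomputable abbrev pv2 := Fi23a.permData.pv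
def tau : Nat → Nat := invOf [0, 1, 2, 3, 4, 5, 6, 8, 9]
def zw : List Nat := repW 9 [1, 2, 3, 4, 5, 6, 7]
theorem simpleF : IsSimpleGroup Fi22 := Fi22Ord.main.1
theorem hnaF : ∃ a b : Fi22, a * b ≠ b * a := by
  haveI := simpleF
  haveI : Finite Fi22 := Nat.finite_of_card_ne_zero (by rw [Fi22Ord.main.2]; decide)
  apply exists_noncomm_of_simple
  rw [Fi22Ord.main.2]; norm_num
theorem weq0 : List.map tau (zw ++ 0 :: (zw ++ [0])) = X0.wl0.W := by decide +kernel
theorem weq1 : List.map tau (zw ++ 1 :: (zw ++ [1])) = X0.wl1.W := by decide +kernel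
theorem weq2 : List.map tau (zw ++ 2 :: (zw ++ [2])) = X0.wl2.W := by decide +kernel
theorem weq3 : List.map tau (zw ++ 3 :: (zw ++ [3])) = X0.wl3.W := by decide +kernel
theorem weq4 : List.map tau (zw ++ 4 :: (zw ++ [4])) = X0.wl4.W := by decide +kernel
theorem weq5 : List.map tau (zw ++ 5 :: (zw ++ [5])) = X0.wl5.W := by decide +kernel
theorem weq6 : List.map tau (zw ++ 6 :: (zw ++ [6])) = X0.wl6.W := by decide +kernel
theorem weq7 : List.map tau (zw ++ 7 :: (zw ++ [7])) = X0.wl7.W := by decide +kernel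
theorem weq8 : List.map tau (zw ++ 8 :: (zw ++ [8])) = X0.wl8.W := by decide +kernel
theorem weq9 : List.map tau (zw ++ zw) = X0.wl9.W := by decide +kernel
theorem hW9 : (allWords Fi22Ord.I.C).map (List.map tau) = [[0], [1], [2], [3], [4], [5], [6], [8], [9]] := by decide +kernel

theorem cover_gen {K : Type} [Group K] (u : Nat → K) (Ψ : K →* Equiv.Perm (Fin (31670 + 1)))
    (hΨ : ∀ c, Ψ (u c) = Fi23a.permData.pv c) (hΨi : Function.Injective Ψ) :
    Cfsg.IsNonsplitDoubleCover (wsub u [[0], [1], [2], [3], [4], [5], [6], [8], [9]]) Fi22 ∧ Nat.card (wsub u [[0], [1], [2], [3], [4], [5], [6], [8], [9]]) = 2 * Nat.card Fi22 := by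
  haveI := simpleF
  have h := cover_of_model Fi23a.permData u Ψ hΨ hΨi Fi22Ord.I hnaF tau (fun c => invOf_range 9 c)
    (by decide +kernel) (by decide +kernel) zw (by decide +kernel) (by decide +kernel)
    (fun c hc i hi => by
      have hc' : c < 9 := hc
      interval_cases c
      · exact (Fi23a.permData.chk 0 (by decide +kernel) i hi).2
      · exact (Fi23a.permData.chk 1 (by decide +kernel) i hi).2
      · exact (Fi23a.permData.chk 2 (by decide +kernel) i hi).2
      · exact (Fi23a.permData.chk 3 (by decide +kernel) i hi).2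
      · exact (Fi23a.permData.chk 4 (by decide +kernel) i hi).2
      · exact (Fi23a.permData.chk 5 (by decide +kernel) i hi).2
      · exact (Fi23a.permData.chk 6 (by decide +kernel) i hi).2
      · exact (Fi23a.permData.chk 8 (by decide +kernel) i hi).2
      · exact (Fi23a.permData.chk 9 (by decide +kernel) i hi).2)
    (fun c hc i hi => by
      have hc' : c < 9 := hc
      interval_cases c
      · rw [weq0]; exact X0.wfix0 i hi
      · rw [weq1]; exact X0.wfix1 i hi
      · rw [weq2]; exact X0.wfix2 i hi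
      · rw [weq3]; exact X0.wfix3 i hi
      · rw [weq4]; exact X0.wfix4 i hi
      · rw [weq5]; exact X0.wfix5 i hi
      · rw [weq6]; exact X0.wfix6 i hi
      · rw [weq7]; exact X0.wfix7 i hi
      · rw [weq8]; exact X0.wfix8 i hi)
    (fun i hi => by rw [weq9]; exact X0.wfix9 i hi)
    1 (by decide +kernel) (by decide +kernel)
    0 (by decide +kernel) 8 (by decide +kernel) (by decide +kernel)
    1 (by decide +kernel) (by decide +kernel)
    P0.Rp (by decide +kernel) (by decide +kernel) P0.certData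
  rw [hW9] at h
  exact h

theorem lo1 : 129123503308800 ≤ Nat.card (wsub pv2 [[0], [1], [2], [3], [4], [5], [6], [8], [9]]) := by
  rw [(cover_gen pv2 (MonoidHom.id _) (fun _ => rfl) (fun _ _ h => h)).2, Fi22Ord.main.2]
theorem lo0 : 4089470473293004800 ≤ Nat.card (wsub pv2 [[0], [1], [2], [3], [4], [5], [6], [7], [8], [9]]) :=
  lower_cons 31671 129123503308800 4089470473293004800 lo1 (card_lower_step pv2 [[0], [1], [2], [3], [4], [5], [6], [7], [8], [9]] [[0], [1], [2], [3], [4], [5], [6], [8], [9]] (by decide +kernel) 31670 (MonoidHom.id _) Fi23a.pt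
    (fun s hs i => walk_of_hom pv2 Fi23a.permData (MonoidHom.id _) (fun _ => rfl) s ((by decide +kernel : ∀ s ∈ ([[0], [1], [2], [3], [4], [5], [6], [7], [8], [9]] : List (List Nat)), ∀ c ∈ s, c < PresFi23.cc.C) s hs) i)
    0 31671 (by decide +kernel) X0.reach0 X0.fix0) (by decide +kernel)
def cnt0 : Nat → Nat := fun k => ([1, 28160, 3510] : List Nat).getD k 0
noncomputable def prim0 : PrimData Fi23a.permData 4089470473293004800 where
  O := Fi23a.orbData
  r := 3
  cnt := cnt0
  hcnt := by
    intro k hk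
    interval_cases k
    exacts [Fi23a.ocnt0, Fi23a.ocnt1, Fi23a.ocnt2]
  hsum := by decide +kernel
  hnum := by decide +kernel
  p := 17
  hp := by norm_num
  yw := Y0.yw
  hyC := by decide +kernel
  hnd := by decide +kernel
  col := Y0.certData
theorem main : IsSimpleGroup Fi23 ∧ Nat.card Fi23 = 4089470473293004800 :=
  simple_of_one I Fi23a.permData 4089470473293004800 (by decide +kernel) up0 lo0 prim0 X0.yfix0

end Cfsg.Agent.Lib.Helper35.Fi23Ord
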